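import Groth.Agent.Lib.NS22.Endo
import Groth.Agent.Lib.AgPol22.Pair
import Groth.Agent.Lib.DimF18.Prod
import Groth.Agent.Lib.Ample18.Ample
import Groth.Agent.Lib.AlgEquiv22.Ample
import Groth.Agent.Lib.AbDual22.Transpose

/-!
# The transposed sequence is exact up to isogeny
-/

universe u

open CategoryTheory Limits MonoidalCategory CartesianMonoidalCategory AlgebraicGeometry TopologicalSpace
open scoped MonObj GrpObj

set_option linter.style.haveILetI false
set_option linter.unusedSectionVars false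
set_option maxHeartbeats 1000000
set_option synthInstance.maxHeartbeats 400000
set_option backward.isDefEq.respectTransparency false

noncomputable section

namespace Groth.Agent.DualSeq22

open Groth.Agent.AlgEquiv22 Groth.Agent.MumVan22 Groth.Agent.Index22

noncomputable local instance instLawDSq (Y : Scheme.{u}) : PicGrp.Law Y := M2.law Y

variable {k : Type u} [Field k]

theorem dim_tensor (X Y : Over (Spec (CommRingCat.of k))) [LocallyOfFiniteType X.hom] [LocallyOfFiniteType Y.hom]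
    [IsIntegral X.left] [IsIntegral Y.left] [IsIntegral (X ⊗ Y).left] [Surjective (fst X Y).left]
    [Surjective (snd X Y).left] {a b : ℕ}
    (ha : topologicalKrullDim X.left = a) (hb : topologicalKrullDim Y.left = b) :
    topologicalKrullDim (X ⊗ Y).left = ((a + b : ℕ) : WithBot ℕ∞) := by
  haveI : LocallyOfFiniteType (X ⊗ Y).hom :=
    inferInstanceAs (LocallyOfFiniteType (pullback.fst X.hom Y.hom ≫ X.hom))
  set η₀ := genericPoint (X ⊗ Y).left
  have hgen : ∀ {Z : Scheme.{u}} [IsIntegral Z] (f : (X ⊗ Y).left ⟶ Z) [Surjective f], f η₀ = genericPoint Z := by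
    intro Z _ f _
    obtain ⟨w, hw⟩ := f.surjective (genericPoint Z)
    exact (((genericPoint_specializes w).map f.continuous).trans (specializes_of_eq hw)).antisymm
      (genericPoint_specializes _) |>.eq
  obtain ⟨-, m, hm, hm1, hm2, hdim⟩ := DimF18.sdim_prod X.hom Y.hom η₀
  haveI : IrreducibleSpace ↥(pullback X.hom Y.hom : Scheme.{u}) := inferInstanceAs (IrreducibleSpace ↥(X ⊗ Y).left)
  have hmη : m = η₀ := (hm.antisymm (genericPoint_specializes m)).eq
  subst hmη
  rw [VarDim.dim_eq_sdim_genericPoint X.hom] at ha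
  rw [VarDim.dim_eq_sdim_genericPoint Y.hom] at hb
  rw [VarDim.dim_eq_sdim_genericPoint (X ⊗ Y).hom]
  refine congrArg _ (hdim.trans ?_)
  have h1 := hgen (fst X Y).left
  have h2 := hgen (snd X Y).left
  rw [← show (fst X Y).left η₀ = pullback.fst X.hom Y.hom η₀ from rfl,
    ← show (snd X Y).left η₀ = pullback.snd X.hom Y.hom η₀ from rfl, h1, h2]
  exact_mod_cast congrArg₂ (· + ·) ha hb

variable [IsAlgClosed k] {A B C At Bt Ct : Over (Spec (CommRingCat.of k))}
  [GrpObj A] [IsProper A.hom] [GeometricallyIntegral A.hom]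
  [GrpObj B] [IsProper B.hom] [GeometricallyIntegral B.hom]
  [GrpObj C] [IsProper C.hom] [GeometricallyIntegral C.hom]
  [GrpObj At] [GrpObj Bt] [GrpObj Ct]
  {φA : ∀ T : Over (Spec (CommRingCat.of k)), PicF.Cl (PicF.XT A.hom T) → (T ⟶ At)}
  {φB : ∀ T : Over (Spec (CommRingCat.of k)), PicF.Cl (PicF.XT B.hom T) → (T ⟶ Bt)}
  {φC : ∀ T : Over (Spec (CommRingCat.of k)), PicF.Cl (PicF.XT C.hom T) → (T ⟶ Ct)}

omit [IsAlgClosed k] in
/-- The transpose moves through the pairing. -/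
theorem ev_transpose (hA : AbDual.IsDualAV Scheme.fppfPrecoverage A At φA) {ξA : PicF.Cl (PicF.XT A.hom At)}
    (hξA : AbDual.IsPoincareCl A At φA ξA) {ξB : PicF.Cl (PicF.XT B.hom Bt)}
    (hξB : AbDual.IsPoincareCl B Bt φB ξB) (f : A ⟶ B) [IsMonHom f] {ft : Bt ⟶ At}
    (hft : AbDual.IsTranspose f φA φB ft) {W : Over (Spec (CommRingCat.of k))} (a : W ⟶ A) (y : W ⟶ Bt) :
    AgPol22.ev hξA a (y ≫ ft) = AgPol22.ev hξB (a ≫ f) y := by
  haveI := NS22.smooth_hom A; haveI := NS22.geometricallyConnected_hom A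
  haveI := AbRigid.geometricallyReduced_of_smooth A.hom
  have key : pb (A ◁ ft) (AgPol22.pcls hξA) = pb (f ▷ Bt) (AgPol22.pcls hξB) := by
    apply Subtype.ext
    have v1 : (pb (A ◁ ft) (AgPol22.pcls hξA)).1 = PicF.pullCl (A ◁ ft).left ξA := PicGrp.pullHom_apply_val ..
    have v2 : (pb (f ▷ Bt) (AgPol22.pcls hξB)).1 = PicF.pullCl (AbDual.bcMap f Bt) ξB := by
      rw [AbDual21.bcMap_eq]; exact PicGrp.pullHom_apply_val ..
    have hz2 : AbDual.IsPicZeroCl A.hom Bt (PicF.pullCl (AbDual.bcMap f Bt) ξB) := by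
      rw [AbDual21.bcMap_eq]
      refine AbDual21.picZero_pull hξB.1 _ (𝟙 Bt.left) ?_
      rw [← AbDual21.bcMap_eq, AbDual.bcMap, pullback.lift_snd]
    refine KernelKL22.eq_of_phi hA (v1 ▸ AbDual21.picZero_whisker ft hξA.1) (v2 ▸ hz2) ?_ ?_
    · rw [v1, v2, AbDual21.phi_natural hA ft hξA.1, hξA.2.1, Category.comp_id, hft Bt ξB hξB.1, hξB.2.1,
        Category.id_comp]
    · have e1 : pb (lift (1 : Bt ⟶ A) (𝟙 Bt)) (pb (A ◁ ft) (AgPol22.pcls hξA)) =
          pb (lift (1 : Bt ⟶ A) (𝟙 Bt)) (pb (f ▷ Bt) (AgPol22.pcls hξB)) := by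
        rw [AlgEquiv22.pb_pb, AlgEquiv22.pb_pb, lift_whiskerLeft, lift_whiskerRight, MonObj.one_comp, Category.id_comp]
        exact (AgPol22.ev_one_left hξA ft).trans (AgPol22.ev_one_left hξB (𝟙 Bt)).symm
      have := congrArg Subtype.val e1
      rwa [PicGrp.pullHom_apply_val, PicGrp.pullHom_apply_val] at this
  have h2 := congrArg (pb (lift a y)) key
  rwa [AlgEquiv22.pb_pb, AlgEquiv22.pb_pb, lift_whiskerLeft, lift_whiskerRight] at h2

omit [IsAlgClosed k] in
/-- A point of the dual is determined by its pairing. -/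
theorem ext_ev (hA : AbDual.IsDualAV Scheme.fppfPrecoverage A At φA) {ξA : PicF.Cl (PicF.XT A.hom At)}
    (hξA : AbDual.IsPoincareCl A At φA ξA) {W : Over (Spec (CommRingCat.of k))} {z z' : W ⟶ At}
    (h : AgPol22.ev hξA (fst A W) (snd A W ≫ z) = AgPol22.ev hξA (fst A W) (snd A W ≫ z')) : z = z' := by
  have hv : ∀ t : W ⟶ At, φA W (AgPol22.ev hξA (fst A W) (snd A W ≫ t)).1 = t := fun t => by
    rw [AgPol22.ev, show lift (fst A W) (snd A W ≫ t) = A ◁ t by
      apply CartesianMonoidalCategory.hom_ext <;> simp, PicGrp.pullHom_apply_val]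
    rw [show (AgPol22.pcls hξA).1 = ξA from rfl, AbDual21.phi_natural hA t hξA.1, hξA.2.1, Category.comp_id]
  rw [← hv z, h, hv]

/-- The class attached to a point of the dual is additive. -/
theorem add_ev [IsProper Bt.hom] [GeometricallyIntegral Bt.hom] (hB : AbDual.IsDualAV Scheme.fppfPrecoverage B Bt φB)
    {ξB : PicF.Cl (PicF.XT B.hom Bt)} (hξB : AbDual.IsPoincareCl B Bt φB ξB)
    (y : 𝟙_ (Over (Spec (CommRingCat.of k))) ⟶ Bt) :
    Add (AgPol22.ev hξB (𝟙 B) (toUnit B ≫ y)) := by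
  haveI := NS22.smooth_hom B; haveI := NS22.geometricallyConnected_hom B
  refine Inv.add ?_
  have h := AlgEquiv22.inv_div_of_integral (A := B) (AgPol22.pcls hξB) y 1
  rw [show pb (sl B (1 : 𝟙_ _ ⟶ Bt)) (AgPol22.pcls hξB) = 1 from ?_, inv_one, _root_.mul_one] at h
  · exact h
  · show AgPol22.ev hξB (𝟙 B) (toUnit B ≫ (1 : 𝟙_ _ ⟶ Bt)) = 1
    rw [MonObj.comp_one, AgPol22.ev_one_right hB]

theorem nd_pullback (f : A ⟶ B) [IsMonHom f] [IsFinite f.left] {L : B.left.Modules} (hL : CohB1.IsAmple L) :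
    Nd (pb f (PicGrp.cls L hL.1)) := by
  have h := AlgEquiv22.finite_fixing (A := A) (Amp.isAmple_pullback_of_isAffineHom f.left hL)
  rwa [show PicGrp.cls _ (Amp.isAmple_pullback_of_isAffineHom f.left hL).1 = pb f (PicGrp.cls L hL.1) from
    (PicGrp.pullHom_cls _ _ _ _).symm] at h

/-- Exactness of the transposed sequence on classes. -/
theorem exists_class [IsCommMonObj B] [IsCommMonObj C] (f : A ⟶ B) [IsMonHom f] (g : B ⟶ C) [IsMonHom g]
    {dA dC : ℕ} (hA : topologicalKrullDim A.left = dA) (hC : topologicalKrullDim C.left = dC)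
    (hB : topologicalKrullDim B.left = ((dA + dC : ℕ) : WithBot ℕ∞))
    (hf : Set.Finite {a : 𝟙_ (Over (Spec (CommRingCat.of k))) ⟶ A | a ≫ f = 1}) (hg : Surjective g.left)
    (hfg : f ≫ g = 1) :
    ∃ N : ℕ, 0 < N ∧ ∀ c : PicLoc.PicSet B.left, Add c → pb f c = 1 →
      ∃ d : PicLoc.PicSet C.left, Add d ∧ c ^ N = pb g d := by
  haveI := NS22.smooth_hom A; haveI := NS22.smooth_hom B; haveI := NS22.smooth_hom C
  haveI := NS22.geometricallyConnected_hom B; haveI := NS22.geometricallyConnected_hom C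
  haveI : IsCommMonObj A := isCommMonObj_of_isProper_of_geometricallyIntegral A
  haveI : IsFinite f.left := Index22.isFinite_of_finite_points f fun b => by
    rcases Set.eq_empty_or_nonempty {a | a ≫ f = b} with he | ⟨a₀, ha₀⟩
    · rw [he]; exact Set.finite_empty
    exact (hf.image fun x => x * a₀).subset fun a (ha : a ≫ f = b) => ⟨a * a₀⁻¹, by
      show (a * a₀⁻¹) ≫ f = 1
      rw [MonObj.mul_comp, GrpObj.inv_comp, ha, show a₀ ≫ f = b from ha₀, mul_inv_cancel],
      inv_mul_cancel_right a a₀⟩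
  obtain ⟨L, hL⟩ := CubeField.exists_isAmple B
  obtain ⟨C', gC', pC', iC', j, hj, hcj, hσm, hσf, hσl, hσs, -⟩ :=
    Index22.exists_complement f (PicGrp.cls L hL.1) (nd_pullback f hL)
  haveI := hj; haveI := hσm; haveI := hσf; haveI := hσl; haveI := hσs
  haveI := NS22.smooth_hom (A ⊗ C')
  haveI := NS22.smooth_hom C'; haveI := NS22.geometricallyConnected_hom C'
  haveI : IsCommMonObj C' := isCommMonObj_of_isProper_of_geometricallyIntegral C'
  haveI : IsCommMonObj (A ⊗ C') := isCommMonObj_of_isProper_of_geometricallyIntegral _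
  haveI : IsIntegral A.left := GeometricallyIntegral.isIntegral_of_subsingleton A.hom
  haveI : IsIntegral B.left := GeometricallyIntegral.isIntegral_of_subsingleton B.hom
  haveI : IsIntegral C.left := GeometricallyIntegral.isIntegral_of_subsingleton C.hom
  haveI : IsIntegral C'.left := GeometricallyIntegral.isIntegral_of_subsingleton C'.hom
  haveI : IsIntegral (A ⊗ C').left := GeometricallyIntegral.isIntegral_of_subsingleton (A ⊗ C').hom
  let σ : A ⊗ C' ⟶ B := (fst A C' ≫ f) * (snd A C' ≫ j)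
  let p : C' ⟶ C := j ≫ g
  have hσg : σ ≫ g = snd A C' ≫ p := by
    rw [MonObj.mul_comp, Category.assoc, Category.assoc, hfg, MonObj.comp_one, _root_.one_mul]
  haveI : Surjective p.left := by
    haveI := hg
    haveI : Surjective ((snd A C').left ≫ p.left) := by
      rw [← Over.comp_left, ← hσg, Over.comp_left]; infer_instance
    exact Surjective.of_comp (snd A C').left p.left
  haveI : Surjective (fst A C').left := ⟨fun z => ⟨(lift (𝟙 A) (1 : A ⟶ C')).left z, by
    rw [← Scheme.Hom.comp_apply, ← Over.comp_left, lift_fst]; rfl⟩⟩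
  haveI : Surjective (snd A C').left := ⟨fun z => ⟨(lift (1 : C' ⟶ A) (𝟙 C')).left z, by
    rw [← Scheme.Hom.comp_apply, ← Over.comp_left, lift_snd]; rfl⟩⟩
  obtain ⟨d', hd'⟩ := Index22.exists_dim (A := C')
  have hdim : d' = dC := by
    have h1 := dim_tensor A C' hA hd'
    have h2 := AbRigid.dim_eq_of_isFinite_of_surjective (A ⊗ C') B σ
    rw [h1, hB] at h2
    have h3 : dA + d' = dA + dC := by exact_mod_cast h2
    omega
  haveI : IsFinite p.left := AbRigid.isFinite_of_surjective C' C p (by rw [hd', hC, hdim])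
  haveI : Flat p.left := AbRigid.flat_of_surjective C' C p
  haveI := AbRigid.geometricallyReduced_of_smooth B.hom
  haveI := AbRigid.geometricallyReduced_of_smooth C.hom
  haveI := AbRigid.geometricallyReduced_of_smooth C'.hom
  haveI := AbRigid.geometricallyReduced_of_smooth (A ⊗ C').hom
  haveI := NS22.geometricallyConnected_hom (A ⊗ C')
  obtain ⟨n, hn, -, -⟩ := IsogEuler22.exists_free p
  have hn0 : 0 < n := hn (p.left (genericPoint C'.left)) ▸ Scheme.Hom.one_le_finrank_map p.left _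
  obtain ⟨⟨gam, ⟨hgm, hgam⟩, -⟩, -⟩ := Groth.Agent.S7790.result C' C p n hn0 fun s => hn _
  obtain ⟨m, hm, -, -⟩ := IsogEuler22.exists_free σ
  have hm0 : 0 < m := hm (σ.left (genericPoint (A ⊗ C').left)) ▸ Scheme.Hom.one_le_finrank_map σ.left _
  obtain ⟨⟨ψ, ⟨hψm, hψ⟩, -⟩, hall⟩ := Groth.Agent.S7790.result (A ⊗ C') B σ m hm0 fun s => hm _
  obtain ⟨hψσ, -⟩ := hall ψ hψm hψ
  refine ⟨n * m, Nat.mul_pos hn0 hm0, fun c hc hfc => ?_⟩
  haveI := hgm
  let d₀ : PicLoc.PicSet C.left := pb gam (pb j c)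
  have hd₀ : Add d₀ := fun V a b => by
    show pb (a * b) (pb gam (pb j c)) = pb a (pb gam (pb j c)) * pb b (pb gam (pb j c))
    rw [AlgEquiv22.pb_pb, AlgEquiv22.pb_pb, AlgEquiv22.pb_pb, AlgEquiv22.pb_pb, AlgEquiv22.pb_pb, AlgEquiv22.pb_pb,
      Category.assoc, Category.assoc, Category.assoc, MonObj.mul_comp, hc]
  have hσ1 : pb σ (c ^ n) = pb σ (pb g d₀) := by
    rw [map_pow, AlgEquiv22.pb_pb σ g, hσg, ← AlgEquiv22.pb_pb _ p, show pb p d₀ = pb j c ^ n from ?_, hc,
      ← AlgEquiv22.pb_pb _ f, hfc, map_one, _root_.one_mul, map_pow, AlgEquiv22.pb_pb _ j]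
    show pb p (pb gam (pb j c)) = _
    rw [AlgEquiv22.pb_pb, hgam, AlgEquiv22.pb_pb, hom_pow_comp' j n, hc.pow]
  have hD : Add (c ^ n * (pb g d₀)⁻¹) := by
    intro V a b
    simp only [map_mul, map_pow, map_inv, AlgEquiv22.pb_pb, MonObj.mul_comp]
    rw [hc, hd₀, mul_pow, mul_inv]
    exact mul_mul_mul_comm _ _ _ _
  have h1 := congrArg (pb ψ) (show pb σ (c ^ n * (pb g d₀)⁻¹) = 1 by rw [map_mul, map_inv, hσ1, mul_inv_cancel])
  rw [AlgEquiv22.pb_pb, hψσ, map_one, hD.pow, pb_id, mul_pow, inv_pow, mul_inv_eq_one, ← pow_mul] at h1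
  exact ⟨d₀ ^ m, by simpa using hd₀.zpow m, by rw [h1, map_pow]⟩
where
  hom_pow_comp' {X Y : Over (Spec (CommRingCat.of k))} [GrpObj X] [GrpObj Y] (j : X ⟶ Y) [IsMonHom j] (n : ℕ) :
      (𝟙 X ^ n) ≫ j = j ^ n := by rw [Isogeny14.hom_pow_comp, Category.id_comp]

end Groth.Agent.DualSeq22

end
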